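import Groth.Agent.Ega41Dim.Degree
import Mathlib.RingTheory.KrullDimension.Regular

/-! The dimension as the least number of elements with a quotient of finite length. -/

universe u

namespace Groth.Ega41Dim

open Pointwise

variable {A : Type u} [CommRing A]

theorem length_quot_cons {n : ℕ} (x : A) (y : Fin n → A) (M : Type u) [AddCommGroup M] [Module A M] :
    Module.length A (M ⧸ Ideal.span (Set.range (Fin.cons x y : Fin (n + 1) → A)) • (⊤ : Submodule A M)) =
      Module.length A ((M ⧸ LinearMap.range (x • LinearMap.id : M →ₗ[A] M)) ⧸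
        Ideal.span (Set.range y) • (⊤ : Submodule A (M ⧸ LinearMap.range (x • LinearMap.id : M →ₗ[A] M)))) := by
  rw [← lenQ_top, length_quot_eq_lenQ _ (Submodule.mkQ_surjective _)]
  congr 1
  rw [show Ideal.span (Set.range y) • (⊤ : Submodule A (M ⧸ LinearMap.range (x • LinearMap.id : M →ₗ[A] M))) =
      (Ideal.span (Set.range y) • (⊤ : Submodule A M)).map
        (LinearMap.range (x • LinearMap.id : M →ₗ[A] M)).mkQ by
    rw [Submodule.map_smul'', Submodule.map_top, Submodule.range_mkQ],
    Submodule.comap_map_eq, Submodule.ker_mkQ, Fin.range_cons, Ideal.span_insert, Submodule.sup_smul, sup_comm]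
  congr 1
  rw [Submodule.ideal_span_singleton_smul]
  ext m
  simp [Submodule.mem_smul_pointwise_iff_exists]

theorem range_smul_id_eq (x : A) (M : Type u) [AddCommGroup M] [Module A M] :
    LinearMap.range (x • LinearMap.id : M →ₗ[A] M) = x • (⊤ : Submodule A M) := by
  ext m; simp [Submodule.mem_smul_pointwise_iff_exists]

variable [IsNoetherianRing A]

theorem supportDim_le_zero_of_finiteLength (M : Type u) [AddCommGroup M] [Module A M] [Module.Finite A M]
    (h : IsFiniteLength A M) : Module.supportDim A M ≤ 0 := by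
  obtain ⟨n, f, hf⟩ := Module.Finite.exists_fin (R := A) (M := M)
  let g : (A ⧸ Module.annihilator A M) →ₗ[A] (Fin n → M) :=
    (Module.annihilator A M).liftQ (LinearMap.pi fun i => LinearMap.toSpanSingleton A M (f i))
      (fun a ha => by ext i; exact Module.mem_annihilator.mp ha (f i))
  have hg : Function.Injective g := by
    rw [injective_iff_map_eq_zero]
    intro a ha
    obtain ⟨a, rfl⟩ := Submodule.mkQ_surjective _ a
    refine (Submodule.Quotient.mk_eq_zero _).mpr (Module.mem_annihilator.mpr fun m => ?_)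
    have hm : m ∈ Submodule.span A (Set.range f) := hf.ge trivial
    induction hm using Submodule.span_induction with
    | mem y hy => obtain ⟨i, rfl⟩ := hy; exact congrFun ha i
    | zero => exact smul_zero a
    | add y z _ _ hy hz => rw [smul_add, hy, hz, add_zero]
    | smul c y _ hy => rw [smul_comm, hy, smul_zero]
  obtain ⟨h1, h2⟩ := isFiniteLength_iff_isNoetherian_isArtinian.mp h
  haveI : IsArtinian A (A ⧸ Module.annihilator A M) := isArtinian_of_injective g hg
  haveI : IsArtinianRing (A ⧸ Module.annihilator A M) := isArtinian_of_tower A this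
  rw [Module.supportDim_eq_ringKrullDim_quotient_annihilator]
  exact Order.krullDim_nonpos_iff_forall_isMax.mpr fun p q hpq =>
    (Ideal.IsMaximal.eq_of_le inferInstance q.isPrime.ne_top (show p.asIdeal ≤ q.asIdeal from hpq)).ge

theorem supportDim_le_of_finiteLength_quot (n : ℕ) :
    ∀ (M : Type u) [AddCommGroup M] [Module A M] [Module.Finite A M] (x : Fin n → A),
      (∀ i, x i ∈ Ring.jacobson A) → IsFiniteLength A (M ⧸ Ideal.span (Set.range x) • (⊤ : Submodule A M)) →
      Module.supportDim A M ≤ n := by
  induction n with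
  | zero =>
    intro M _ _ _ x _ h
    refine supportDim_le_zero_of_finiteLength M (Module.length_ne_top_iff.mp ?_)
    have h' := Module.length_ne_top_iff.mpr h
    rwa [Set.range_eq_empty, Ideal.span_empty, Submodule.bot_smul, (Submodule.quotEquivOfEqBot _ rfl).length_eq] at h'
  | succ n ih =>
    intro M _ _ _ x hx h
    induction x using Fin.consCases with
    | _ a y =>
      refine (Module.supportDim_le_supportDim_quotSMulTop_succ_of_mem_jacobson
        ((Module.annihilator A M).ringJacobson_le_jacobson (by simpa using hx 0))).trans ?_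
      have hle : Module.supportDim A (M ⧸ LinearMap.range (a • LinearMap.id : M →ₗ[A] M)) ≤ n :=
        ih _ y (fun i => by simpa using hx i.succ)
          (Module.length_ne_top_iff.mp ((length_quot_cons a y M) ▸ Module.length_ne_top_iff.mpr h))
      rw [range_smul_id_eq] at hle
      exact (add_le_add hle le_rfl).trans_eq (by push_cast; rfl)

theorem exists_finiteLength_quot_of_supportDim_le (r : Ideal A) [IsArtinianRing (A ⧸ r)]
    (hmax : ∀ p : Ideal A, p.IsPrime → r ≤ p → p.IsMaximal) (hr : r ≤ Ideal.jacobson ⊥) (d : ℕ) :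
    ∀ (M : Type u) [AddCommGroup M] [Module A M] [Module.Finite A M], Module.supportDim A M ≤ d →
      ∃ x : Fin d → A, (∀ i, x i ∈ r) ∧
        IsFiniteLength A (M ⧸ Ideal.span (Set.range x) • (⊤ : Submodule A M)) := by
  induction d with
  | zero =>
    intro M _ _ _ h
    obtain ⟨k, hk⟩ := exists_pow_le_annihilator hmax hr h
    refine ⟨Fin.elim0, fun i => i.elim0, Module.length_ne_top_iff.mp ?_⟩
    rw [Set.range_eq_empty, Ideal.span_empty, Submodule.bot_smul]
    have := length_quot_ne_top r M k
    rwa [show r ^ k • (⊤ : Submodule A M) = ⊥ from eq_bot_iff.mpr (Submodule.smul_le.mpr fun a ha m _ => by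
      simpa using Module.mem_annihilator.mp (hk ha) m)] at this
  | succ d ih =>
    intro M _ _ _ h
    obtain ⟨a, ha, hle⟩ := exists_mem_supportDim_quotient_le hmax h
    obtain ⟨y, hy, hfin⟩ := ih _ hle
    exact ⟨Fin.cons a y, fun i => Fin.cases ha hy i,
      Module.length_ne_top_iff.mp ((length_quot_cons a y M).symm ▸ Module.length_ne_top_iff.mpr hfin)⟩

theorem isArtinianRing_quotient_of_forall_isMaximal (r : Ideal A)
    (hmax : ∀ p : Ideal A, p.IsPrime → r ≤ p → p.IsMaximal) : IsArtinianRing (A ⧸ r) := by
  haveI : Ring.KrullDimLE 0 (A ⧸ r) := Ring.krullDimLE_zero_iff.mpr fun P hP => by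
    haveI := hmax (P.comap (Ideal.Quotient.mk _)) (hP.comap _) ((Ideal.mk_ker (I := r)).ge.trans (Ideal.comap_mono bot_le))
    rw [← Ideal.map_comap_of_surjective _ Ideal.Quotient.mk_surjective P]
    exact (Ideal.map_eq_top_or_isMaximal_of_surjective _ Ideal.Quotient.mk_surjective this).resolve_left
      (by rw [Ideal.map_comap_of_surjective _ Ideal.Quotient.mk_surjective]; exact hP.ne_top)
  exact isArtinianRing_iff_krullDimLE_zero.mpr inferInstance

theorem isMaximal_of_jacobson_le [Finite (MaximalSpectrum A)] (p : Ideal A) (hp : p.IsPrime)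
    (hle : Ring.jacobson A ≤ p) : p.IsMaximal := by
  classical
  haveI := Fintype.ofFinite (MaximalSpectrum A)
  rw [Ring.jacobson_eq_sInf_isMaximal] at hle
  have h2 : Finset.univ.inf (MaximalSpectrum.asIdeal (R := A)) ≤ p :=
    le_trans (le_sInf fun m hm => Finset.inf_le (f := MaximalSpectrum.asIdeal) (Finset.mem_univ (⟨m, hm⟩ : MaximalSpectrum A))) hle
  obtain ⟨m, -, hm⟩ := (Ideal.IsPrime.inf_le' hp).mp h2
  exact (m.isMaximal.eq_of_le hp.ne_top hm) ▸ m.isMaximal

/-- The equality s(M) = dim(M). -/
theorem supportDim_eq_sInf [Finite (MaximalSpectrum A)] (M : Type u) [AddCommGroup M] [Module A M]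
    [Module.Finite A M] [Nontrivial M] :
    Module.supportDim A M =
      sInf {k : WithBot ℕ∞ | ∃ (n : ℕ) (x : Fin n → A), k = n ∧ (∀ i, x i ∈ Ring.jacobson A) ∧
        IsFiniteLength A (M ⧸ (Ideal.span (Set.range x) • (⊤ : Submodule A M)))} := by
  haveI := isArtinianRing_quotient_of_forall_isMaximal (Ring.jacobson A) isMaximal_of_jacobson_le
  refine le_antisymm (le_sInf ?_) ?_
  · rintro _ ⟨n, x, rfl, hx, h⟩
    exact supportDim_le_of_finiteLength_quot n M x hx h
  · obtain ⟨P, hP⟩ := exists_isHSPoly (Ring.jacobson A) M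
    have hd := natDegree_eq_supportDim isMaximal_of_jacobson_le Ideal.jacobson_bot.ge hP
    obtain ⟨x, hx, h⟩ := exists_finiteLength_quot_of_supportDim_le (Ring.jacobson A) isMaximal_of_jacobson_le
      Ideal.jacobson_bot.ge P.natDegree M hd.ge
    exact sInf_le ⟨_, x, hd.symm, hx, h⟩

end Groth.Ega41Dim
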