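import Groth.Agent.Ega41Dim.HilbertSamuel
import Mathlib.RingTheory.Finiteness.Ideal
import Mathlib.RingTheory.Ideal.MinimalPrime.Noetherian

/-! The degree of the Hilbert–Samuel polynomial is the dimension. -/

universe u

namespace Groth.Ega41Dim

open Polynomial Filter

variable {A : Type u} [CommRing A] [IsNoetherianRing A] (r : Ideal A) [IsArtinianRing (A ⧸ r)]
  {M N : Type u} [AddCommGroup M] [Module A M] [Module.Finite A M] [AddCommGroup N] [Module A N] [Module.Finite A N]

omit [Module.Finite A N] in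
theorem hs_le_of_surjective (g : M →ₗ[A] N) (hg : Function.Surjective g) (n : ℕ) : hs r N n ≤ hs r M n := by
  refine ENat.toNat_le_toNat ?_ (length_quot_ne_top r M n)
  refine Module.length_le_of_surjective (Submodule.mapQ _ _ g ?_) ?_
  · rw [← Submodule.map_le_iff_le_comap, Submodule.map_smul'']
    exact smul_mono_right _ le_top
  · intro y
    obtain ⟨y, rfl⟩ := Submodule.mkQ_surjective _ y
    obtain ⟨x, rfl⟩ := hg y
    exact ⟨Submodule.mkQ _ x, rfl⟩

omit [Module.Finite A N] [IsArtinianRing (A ⧸ r)] in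
theorem exists_comap_pow_le (ι : N →ₗ[A] M) (hι : Function.Injective ι) :
    ∃ c, ∀ n, (r ^ n • (⊤ : Submodule A M)).comap ι ≤ r ^ (n - c) • ⊤ := by
  obtain ⟨c, hc⟩ := r.exists_pow_inf_eq_pow_smul (LinearMap.range ι)
  refine ⟨c, fun n => ?_⟩
  by_cases hn : c ≤ n
  · rw [← Submodule.map_le_map_iff_of_injective hι, Submodule.map_comap_eq, inf_comm, hc n hn,
      Submodule.map_smul'', Submodule.map_top]
    exact smul_mono_right _ inf_le_right
  · rw [show n - c = 0 by lia, pow_zero, Ideal.one_eq_top, Submodule.top_smul]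
    exact le_top

theorem hs_le_length_comap (ι : N →ₗ[A] M) (n c : ℕ)
    (hc : (r ^ n • (⊤ : Submodule A M)).comap ι ≤ r ^ (n - c) • ⊤) :
    (hs r N (n - c) : ℕ∞) ≤ Module.length A (N ⧸ (r ^ n • (⊤ : Submodule A M)).comap ι) := by
  rw [hs, ENat.coe_toNat (length_quot_ne_top r N _)]
  exact Module.length_le_of_surjective (Submodule.mapQ _ _ LinearMap.id hc) fun y => by
    obtain ⟨y, rfl⟩ := Submodule.mkQ_surjective _ y
    exact ⟨Submodule.mkQ _ y, rfl⟩

theorem hs_sub_le_of_injective (ι : N →ₗ[A] M) (hι : Function.Injective ι) :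
    ∃ c, ∀ n, hs r N (n - c) ≤ hs r M n := by
  obtain ⟨c, hc⟩ := exists_comap_pow_le r ι hι
  refine ⟨c, fun n => ?_⟩
  have h2 : Module.length A (N ⧸ (r ^ n • (⊤ : Submodule A M)).comap ι) ≤
      Module.length A (M ⧸ r ^ n • (⊤ : Submodule A M)) :=
    Module.length_le_of_injective (Submodule.mapQ _ _ ι le_rfl) (by
      rw [injective_iff_map_eq_zero]
      intro z hz
      obtain ⟨z, rfl⟩ := Submodule.mkQ_surjective _ z
      exact (Submodule.Quotient.mk_eq_zero _).mpr
        ((Submodule.Quotient.mk_eq_zero (r ^ n • (⊤ : Submodule A M))).mp hz :))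
  exact_mod_cast ((hs_le_length_comap r ι n c (hc n)).trans h2).trans
    (ENat.coe_toNat (length_quot_ne_top r M n)).ge

omit [IsArtinianRing (A ⧸ r)] [Module.Finite A N] [Module.Finite A M] [IsNoetherianRing A] in
theorem length_eq_add_range (φ : M →ₗ[A] M) (n : ℕ) :
    Module.length A (M ⧸ r ^ n • (⊤ : Submodule A M)) =
      Module.length A ((M ⧸ LinearMap.range φ) ⧸ r ^ n • (⊤ : Submodule A (M ⧸ LinearMap.range φ))) +
        Module.length A (M ⧸ (r ^ n • (⊤ : Submodule A M)).comap φ) := by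
  have e1 : (r ^ n • (⊤ : Submodule A (M ⧸ LinearMap.range φ))).comap (LinearMap.range φ).mkQ =
      LinearMap.range φ ⊔ r ^ n • ⊤ := by
    rw [show r ^ n • (⊤ : Submodule A (M ⧸ LinearMap.range φ)) =
        (r ^ n • (⊤ : Submodule A M)).map (LinearMap.range φ).mkQ by
      rw [Submodule.map_smul'', Submodule.map_top, Submodule.range_mkQ],
      Submodule.comap_map_eq, Submodule.ker_mkQ, sup_comm]
  rw [length_quot_eq_lenQ _ (Submodule.mkQ_surjective _), e1, ← lenQ_top, ← lenQ_top,
    lenQ_add (le_sup_right : r ^ n • (⊤ : Submodule A M) ≤ LinearMap.range φ ⊔ r ^ n • ⊤) le_top]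
  congr 1
  conv_rhs => rw [show Submodule.comap φ (r ^ n • (⊤ : Submodule A M)) =
      ⊤ ⊓ Submodule.comap φ (r ^ n • (⊤ : Submodule A M)) from (top_inf_eq _).symm,
    lenQ_map, Submodule.map_top]

variable {r}

theorem IsHSPoly.unique {P Q : ℚ[X]} (hP : IsHSPoly r M P) (hQ : IsHSPoly r M Q) : P = Q := by
  obtain ⟨N₀, hN⟩ := eventually_atTop.mp (hP.and hQ)
  refine Polynomial.eq_of_infinite_eval_eq _ _ (Set.Infinite.mono ?_
    ((Set.Ici_infinite N₀).image (Nat.cast_injective (R := ℚ)).injOn))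
  rintro _ ⟨n, hn, rfl⟩
  exact (hN n hn).1.symm.trans (hN n hn).2

theorem natDegree_comp_X_sub (P : ℚ[X]) (c : ℕ) : (P.comp (X - C (c : ℚ))).natDegree = P.natDegree := by
  rw [natDegree_comp, natDegree_X_sub_C, mul_one]

theorem eval_comp_X_sub (P : ℚ[X]) {n c : ℕ} (h : c ≤ n) :
    (P.comp (X - C (c : ℚ))).eval (n : ℚ) = P.eval ((n - c : ℕ) : ℚ) := by
  simp [eval_comp, Nat.cast_sub h]

theorem natDegree_le_of_injective (ι : N →ₗ[A] M) (hι : Function.Injective ι) {P Q : ℚ[X]}
    (hQ : IsHSPoly r N Q) (hP : IsHSPoly r M P) : Q.natDegree ≤ P.natDegree := by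
  obtain ⟨c, hc⟩ := hs_sub_le_of_injective r ι hι
  rw [← natDegree_comp_X_sub Q c]
  refine natDegree_le_of_eventually_le ?_
  filter_upwards [eventually_comp_sub c hQ, hP, eventually_ge_atTop c] with n h1 h2 h3
  rw [eval_comp_X_sub _ h3, ← h1, ← h2]
  exact ⟨Nat.cast_nonneg _, Nat.cast_le.mpr (hc n)⟩

theorem natDegree_le_of_surjective (g : M →ₗ[A] N) (hg : Function.Surjective g) {P Q : ℚ[X]}
    (hQ : IsHSPoly r N Q) (hP : IsHSPoly r M P) : Q.natDegree ≤ P.natDegree := by
  refine natDegree_le_of_eventually_le ?_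
  filter_upwards [hQ, hP] with n h1 h2
  rw [← h1, ← h2]
  exact ⟨Nat.cast_nonneg _, Nat.cast_le.mpr (hs_le_of_surjective r g hg n)⟩

theorem hs_pos [Nontrivial M] (hr : r ≤ Ideal.jacobson ⊥) (n : ℕ) : 0 < hs r M (n + 1) := by
  rw [hs]
  refine Nat.pos_of_ne_zero fun h => ?_
  rcases ENat.toNat_eq_zero.mp h with h | h
  · rw [Module.length_eq_zero_iff, Submodule.Quotient.subsingleton_iff] at h
    have h2 : (⊤ : Submodule A M) = ⊥ := Submodule.eq_bot_of_le_smul_of_le_jacobson_bot (r ^ (n + 1)) ⊤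
      Module.Finite.fg_top h.ge ((Ideal.pow_le_self n.succ_ne_zero).trans hr)
    exact top_ne_bot h2
  · exact length_quot_ne_top r M _ h

/-- Dividing by an injective endomorphism lowers the degree. -/
theorem natDegree_lt_of_injective_endo {φ : M →ₗ[A] M} [Nontrivial (M ⧸ LinearMap.range φ)]
    (hr : r ≤ Ideal.jacobson ⊥) (hφ : Function.Injective φ) {P Q : ℚ[X]}
    (hQ : IsHSPoly r (M ⧸ LinearMap.range φ) Q) (hP : IsHSPoly r M P) : Q.natDegree < P.natDegree := by
  obtain ⟨c, hc⟩ := exists_comap_pow_le r φ hφ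
  let D := P - P.comp (X - C (c : ℚ))
  have hle : ∀ᶠ n : ℕ in atTop, 0 ≤ Q.eval (n : ℚ) ∧ Q.eval (n : ℚ) ≤ D.eval (n : ℚ) := by
    filter_upwards [hQ, hP, eventually_comp_sub c hP, eventually_ge_atTop c] with n h1 h2 h3 h4
    rw [eval_sub, eval_comp_X_sub _ h4, ← h1, ← h2, ← h3]
    refine ⟨Nat.cast_nonneg _, ?_⟩
    have key : ((hs r (M ⧸ LinearMap.range φ) n + hs r M (n - c) : ℕ) : ℕ∞) ≤ hs r M n := by
      rw [Nat.cast_add]
      simp only [hs, ENat.coe_toNat (length_quot_ne_top r _ _)]
      rw [length_eq_add_range r φ n]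
      refine add_le_add le_rfl ?_
      have := hs_le_length_comap r φ n c (hc n)
      rwa [hs, ENat.coe_toNat (length_quot_ne_top r _ _)] at this
    have key' : ((hs r (M ⧸ LinearMap.range φ) n + hs r M (n - c) : ℕ) : ℚ) ≤ hs r M n :=
      Nat.cast_le.mpr (ENat.coe_le_coe.mp key)
    push_cast at key'
    linarith
  have hD : D ≠ 0 := fun h0 => by
    obtain ⟨n, hn, h1, h2⟩ := (hle.and (hQ.and (eventually_ge_atTop 1))).exists
    obtain ⟨m, rfl⟩ : ∃ m, n = m + 1 := ⟨n - 1, by lia⟩
    rw [h0, eval_zero, ← h1] at hn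
    exact (hs_pos (M := M ⧸ LinearMap.range φ) hr m).ne' (by exact_mod_cast le_antisymm hn.2 hn.1)
  refine (natDegree_le_of_eventually_le hle).trans_lt ((natDegree_lt_natDegree_iff hD).mpr ?_)
  have hP0 : P ≠ 0 := fun h0 => hD (by simp [D, h0])
  have hdeg : P.degree = (P.comp (X - C (c : ℚ))).degree := by
    rw [degree_eq_natDegree hP0, degree_eq_natDegree, natDegree_comp_X_sub]
    intro h0
    exact hP0 ((comp_eq_zero_iff.mp h0).elim id fun h => by
      have := congrArg natDegree h.2
      rw [natDegree_X_sub_C, natDegree_C] at this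
      exact absurd this one_ne_zero)
  exact degree_sub_lt hdeg hP0 (by rw [leadingCoeff_comp (by rw [natDegree_X_sub_C]; exact one_ne_zero), leadingCoeff_X_sub_C, one_pow, mul_one])

/-- The chain bound. -/
theorem length_le_natDegree (hr : r ≤ Ideal.jacobson ⊥) (d : ℕ) :
    ∀ (s : LTSeries (PrimeSpectrum A)), s.length = d → ∀ P, IsHSPoly r (A ⧸ s.head.asIdeal) P →
      d ≤ P.natDegree := by
  induction d with
  | zero => exact fun _ _ _ _ => Nat.zero_le _
  | succ d ih =>
    intro s hs P hP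
    let s' := s.tail (by lia)
    have hlt : s.head < s'.head := by
      rw [RelSeries.head_tail]
      exact s.strictMono (Fin.lt_def.mpr (by simp [Fin.val_one', Nat.mod_eq_of_lt (show 1 < s.length + 1 by lia)]))
    obtain ⟨x, hx, hx'⟩ := Set.exists_of_ssubset (hlt : s.head.asIdeal < s'.head.asIdeal)
    let φ : (A ⧸ s.head.asIdeal) →ₗ[A] (A ⧸ s.head.asIdeal) := x • LinearMap.id
    have hφ : Function.Injective φ := by
      rw [injective_iff_map_eq_zero]
      intro y hy
      obtain ⟨y, rfl⟩ := Ideal.Quotient.mk_surjective y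
      have hxy : x * y ∈ s.head.asIdeal := Ideal.Quotient.eq_zero_iff_mem.mp hy
      exact Ideal.Quotient.eq_zero_iff_mem.mpr ((s.head.isPrime.mem_or_mem hxy).resolve_left hx')
    have hrange : LinearMap.range φ ≤
        LinearMap.ker (Submodule.mapQ _ _ LinearMap.id hlt.le : (A ⧸ s.head.asIdeal) →ₗ[A] (A ⧸ s'.head.asIdeal)) := by
      rintro _ ⟨y, rfl⟩
      obtain ⟨y, rfl⟩ := Ideal.Quotient.mk_surjective y
      exact Ideal.Quotient.eq_zero_iff_mem.mpr (Ideal.mul_mem_right y _ hx)
    let g := (LinearMap.range φ).liftQ _ hrange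
    have hg : Function.Surjective g := fun y => by
      obtain ⟨y, rfl⟩ := Ideal.Quotient.mk_surjective y
      exact ⟨Submodule.Quotient.mk (Submodule.Quotient.mk y), rfl⟩
    haveI : Nontrivial (A ⧸ s'.head.asIdeal) := Ideal.Quotient.nontrivial_iff.mpr s'.head.isPrime.ne_top
    haveI : Nontrivial ((A ⧸ s.head.asIdeal) ⧸ LinearMap.range φ) := hg.nontrivial
    obtain ⟨Q, hQ⟩ := exists_isHSPoly r ((A ⧸ s.head.asIdeal) ⧸ LinearMap.range φ)
    obtain ⟨R, hR⟩ := exists_isHSPoly r (A ⧸ s'.head.asIdeal)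
    have h1 := ih s' (by simp [s']; lia) R hR
    have h2 := natDegree_le_of_surjective g hg hR hQ
    have h3 := natDegree_lt_of_injective_endo hr hφ hQ hP
    lia

theorem supportDim_le_natDegree (hr : r ≤ Ideal.jacobson ⊥) {P : ℚ[X]} (hP : IsHSPoly r M P) :
    Module.supportDim A M ≤ (P.natDegree : WithBot ℕ∞) := by
  refine iSup_le fun s => ?_
  let t : LTSeries (PrimeSpectrum A) := s.map Subtype.val fun _ _ h => h
  have hmem : t.head ∈ Module.support A M := by
    exact s.head.2
  rw [Module.support_eq_zeroLocus, PrimeSpectrum.mem_zeroLocus, SetLike.coe_subset_coe] at hmem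
  obtain ⟨p, hp, hpq⟩ := Ideal.exists_minimalPrimes_le hmem
  obtain ⟨hprime, m, hm⟩ := (isAssociatedPrime_iff_exists_injective_linearMap _ _).mp
    (Module.associatedPrimes.minimalPrimes_annihilator_subset_associatedPrimes A M hp)
  obtain ⟨Q, hQ⟩ := exists_isHSPoly r (A ⧸ p)
  obtain ⟨R, hR⟩ := exists_isHSPoly r (A ⧸ t.head.asIdeal)
  have h1 := length_le_natDegree hr t.length t rfl R hR
  have h2 := natDegree_le_of_surjective (Submodule.mapQ p t.head.asIdeal LinearMap.id hpq)
    (fun y => by obtain ⟨y, rfl⟩ := Ideal.Quotient.mk_surjective y; exact ⟨Submodule.Quotient.mk y, rfl⟩) hR hQ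
  have h3 := natDegree_le_of_injective m hm hQ hP
  exact_mod_cast (show s.length ≤ P.natDegree from (show t.length = s.length from rfl) ▸ (by lia))

omit [IsNoetherianRing A] in
theorem annihilator_le_of_mem_support {p : PrimeSpectrum A} (h : p ∈ Module.support A M) :
    Module.annihilator A M ≤ p.asIdeal := by
  rwa [Module.support_eq_zeroLocus, PrimeSpectrum.mem_zeroLocus, SetLike.coe_subset_coe] at h

theorem exists_pow_le_annihilator (hmax : ∀ p : Ideal A, p.IsPrime → r ≤ p → p.IsMaximal)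
    (hr : r ≤ Ideal.jacobson ⊥) (hdim : Module.supportDim A M ≤ ((0 : ℕ) : WithBot ℕ∞)) :
    ∃ k : ℕ, r ^ k ≤ Module.annihilator A M := by
  have hmaxsupp : ∀ p : PrimeSpectrum A, p ∈ Module.support A M → p.asIdeal.IsMaximal := fun p hp => by
    obtain ⟨m, hm, hpm⟩ := Ideal.exists_le_maximal _ p.isPrime.ne_top
    rcases eq_or_lt_of_le hpm with h | h
    · exact h ▸ hm
    exfalso
    let q : Module.support A M := ⟨⟨m, hm.isPrime⟩, Module.mem_support_mono (M := M) hpm hp⟩
    let s : LTSeries (Module.support A M) := (RelSeries.singleton _ ⟨p, hp⟩).snoc q (by exact h)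
    have := (Order.LTSeries.length_le_krullDim s).trans hdim
    exact absurd (show s.length ≤ 0 by exact_mod_cast this) (by simp [s, RelSeries.snoc, RelSeries.append])
  have hle : r ≤ (Module.annihilator A M).radical := by
    rw [Ideal.radical_eq_sInf]
    refine le_sInf fun p ⟨hp, hprime⟩ => ?_
    haveI := hmaxsupp ⟨p, hprime⟩ (by rw [Module.support_eq_zeroLocus]; exact hp)
    exact hr.trans (sInf_le ⟨bot_le, this⟩)
  exact Ideal.exists_pow_le_of_le_radical_of_fg_radical hle (IsNoetherian.noetherian _)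

theorem exists_mem_supportDim_quotient_le (hmax : ∀ p : Ideal A, p.IsPrime → r ≤ p → p.IsMaximal) {d : ℕ}
    (hdim : Module.supportDim A M ≤ ((d + 1 : ℕ) : WithBot ℕ∞)) :
    ∃ x ∈ r, Module.supportDim A (M ⧸ LinearMap.range (x • LinearMap.id : M →ₗ[A] M)) ≤ d := by
  classical
  have hfin := (Module.annihilator A M).finite_minimalPrimes_of_isNoetherianRing
  let S : Finset (Ideal A) := hfin.toFinset.filter fun p => ¬ p.IsMaximal
  have hS : ¬ (r : Set A) ⊆ ⋃ p ∈ (↑S : Set (Ideal A)), (p : Set A) := fun h => by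
    obtain ⟨p, hp, hrp⟩ := (Ideal.subset_union_prime ⊥ ⊥ (fun p hp _ _ => by
      simp only [S, Finset.mem_filter, Set.Finite.mem_toFinset] at hp
      exact hp.1.isPrime)).mp h
    simp only [S, Finset.mem_filter, Set.Finite.mem_toFinset] at hp
    exact hp.2 (hmax p hp.1.isPrime hrp)
  obtain ⟨x, hx, hx'⟩ := Set.not_subset.mp hS
  refine ⟨x, hx, ?_⟩
  let φ : M →ₗ[A] M := x • LinearMap.id
  have hxann : x ∈ Module.annihilator A (M ⧸ LinearMap.range φ) := Module.mem_annihilator.mpr fun y => by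
    obtain ⟨y, rfl⟩ := Submodule.mkQ_surjective _ y
    exact (Submodule.Quotient.mk_eq_zero _).mpr ⟨y, rfl⟩
  show Module.supportDim A (M ⧸ LinearMap.range φ) ≤ d
  refine iSup_le fun t => ?_
  have hq := annihilator_le_of_mem_support t.head.2
  have hqM : t.head.1 ∈ Module.support A M :=
    Module.support_subset_of_surjective _ (Submodule.mkQ_surjective _) t.head.2
  by_cases hqmax : t.head.1.asIdeal.IsMaximal
  · suffices t.length = 0 by simp [this]
    by_contra h0
    have hlt : t.head.1.asIdeal < t.last.1.asIdeal :=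
      (t.strictMono (show (0 : Fin (t.length + 1)) < Fin.last _ from Fin.lt_def.mpr (by simp; lia)) :)
    exact hlt.ne (hqmax.eq_of_le t.last.1.isPrime.ne_top hlt.le)
  · have hannq : Module.annihilator A M ≤ t.head.1.asIdeal := by
      rwa [Module.support_eq_zeroLocus, PrimeSpectrum.mem_zeroLocus, SetLike.coe_subset_coe] at hqM
    obtain ⟨p, hp, hpq⟩ := Ideal.exists_minimalPrimes_le hannq
    have hpS : p ∈ S := by
      simp only [S, Finset.mem_filter, Set.Finite.mem_toFinset]
      exact ⟨hp, fun hm => hqmax (hm.eq_of_le t.head.1.isPrime.ne_top hpq ▸ hm)⟩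
    have hne : p ≠ t.head.1.asIdeal := fun e => hx' (Set.mem_biUnion hpS (e ▸ hq hxann))
    let pM : Module.support A M :=
      ⟨⟨p, hp.isPrime⟩, by rw [Module.support_eq_zeroLocus]; exact hp.1.2⟩
    let t' : LTSeries (Module.support A M) := (t.map (fun q => (⟨q.1,
      Module.support_subset_of_surjective _ (Submodule.mkQ_surjective _) q.2⟩ : Module.support A M))
        (fun _ _ h => h)).cons pM (lt_of_le_of_ne hpq hne :)
    have := (Order.LTSeries.length_le_krullDim t').trans hdim
    have h1 : t.length + 1 ≤ d + 1 := by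
      have h2 : t'.length ≤ d + 1 := by exact_mod_cast this
      simp [t', RelSeries.cons, RelSeries.append, LTSeries.map] at h2
      lia
    exact_mod_cast (show t.length ≤ d by lia)

omit [Module.Finite A M] in
theorem natDegree_le_of_supportDim_le (hmax : ∀ p : Ideal A, p.IsPrime → r ≤ p → p.IsMaximal)
    (hr : r ≤ Ideal.jacobson ⊥) (d : ℕ) :
    ∀ (M : Type u) [AddCommGroup M] [Module A M] [Module.Finite A M], Module.supportDim A M ≤ d →
      ∀ P, IsHSPoly r M P → P.natDegree ≤ d := by
  induction d with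
  | zero =>
    intro M _ _ _ hdim P hP
    obtain ⟨k, hk⟩ := exists_pow_le_annihilator hmax hr hdim
    have hC : IsHSPoly r M (C (hs r M k : ℚ)) := by
      filter_upwards [eventually_ge_atTop k] with n hn
      have hbot : ∀ j, k ≤ j → r ^ j • (⊤ : Submodule A M) = ⊥ := fun j hj => by
        rw [eq_bot_iff, Submodule.smul_le]
        intro a ha m _
        simpa using Module.mem_annihilator.mp (hk (Ideal.pow_le_pow_right hj ha)) m
      rw [eval_C, hs, hs, hbot n hn, hbot k le_rfl]
    rw [hP.unique hC, natDegree_C]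
  | succ d ih =>
    classical
    intro M _ _ _ hdim P hP
    obtain ⟨x, hx, hdimN⟩ := exists_mem_supportDim_quotient_le hmax hdim
    let φ : M →ₗ[A] M := x • LinearMap.id
    obtain ⟨Q, hQ⟩ := exists_isHSPoly r (M ⧸ LinearMap.range φ)
    have hN : Q.natDegree ≤ d := ih (M ⧸ LinearMap.range φ) hdimN Q hQ
    have hΔ : (P.comp (X + 1) - P).natDegree ≤ d := by
      refine (natDegree_le_of_eventually_le (Q := Q.comp (X + 1)) ?_).trans (by
        rwa [natDegree_comp, show (X + 1 : ℚ[X]).natDegree = 1 from natDegree_X_add_C 1, mul_one])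
      filter_upwards [hP, (tendsto_add_atTop_nat 1).eventually hP, (tendsto_add_atTop_nat 1).eventually hQ]
        with n h1 h2 h3
      push_cast at h2 h3
      simp only [eval_sub, eval_comp, eval_add, eval_X, eval_one]
      rw [← h1, ← h2, ← h3, sub_nonneg, sub_le_iff_le_add]
      refine ⟨Nat.cast_le.mpr (ENat.toNat_le_toNat ?_ (length_quot_ne_top r M _)), ?_⟩
      · exact Module.length_le_of_surjective (Submodule.mapQ _ _ LinearMap.id
          (Submodule.smul_mono_left (Ideal.pow_le_pow_right n.le_succ))) fun y => by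
            obtain ⟨y, rfl⟩ := Submodule.mkQ_surjective _ y
            exact ⟨Submodule.mkQ _ y, rfl⟩
      · have key : Module.length A (M ⧸ r ^ (n + 1) • (⊤ : Submodule A M)) ≤
            ((hs r (M ⧸ LinearMap.range φ) (n + 1) + hs r M n : ℕ) : ℕ∞) := by
          rw [length_eq_add_range r φ, Nat.cast_add]
          simp only [hs, ENat.coe_toNat (length_quot_ne_top r _ _)]
          refine add_le_add le_rfl (Module.length_le_of_surjective (Submodule.mapQ _ _ LinearMap.id ?_) fun y => by
            obtain ⟨y, rfl⟩ := Submodule.mkQ_surjective _ y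
            exact ⟨Submodule.mkQ _ y, rfl⟩)
          rw [pow_succ', mul_smul]
          intro m hm
          exact Submodule.smul_mem_smul hx hm
        exact_mod_cast ((ENat.coe_toNat (length_quot_ne_top r M (n + 1))).le.trans key)
    obtain ⟨P', hP', hev⟩ := evPolyLT_of_diff (f := hs r M) (g := d + 1) (P.comp (X + 1) - P)
      (degree_le_natDegree.trans_lt (WithBot.coe_lt_coe.mpr (Nat.lt_succ_of_le hΔ))) (by
        filter_upwards [hP, (tendsto_add_atTop_nat 1).eventually hP] with n h1 h2
        push_cast at h2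
        rw [h1, h2, eval_sub, eval_comp, eval_add, eval_X, eval_one])
    rw [hP.unique hev]
    by_cases h0 : P' = 0
    · simp [h0]
    · exact Nat.lt_succ_iff.mp ((natDegree_lt_iff_degree_lt h0).mpr hP')

/-- The degree of the Hilbert–Samuel polynomial is the dimension. -/
theorem natDegree_eq_supportDim [Nontrivial M] (hmax : ∀ p : Ideal A, p.IsPrime → r ≤ p → p.IsMaximal)
    (hr : r ≤ Ideal.jacobson ⊥) {P : ℚ[X]} (hP : IsHSPoly r M P) :
    (P.natDegree : WithBot ℕ∞) = Module.supportDim A M := by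
  refine le_antisymm ?_ (supportDim_le_natDegree hr hP)
  obtain ⟨d, hd⟩ : ∃ d : ℕ, Module.supportDim A M = d := by
    have h2 := supportDim_le_natDegree hr hP
    have h3 := Module.supportDim_ne_bot_of_nontrivial A M
    generalize Module.supportDim A M = x at h2 h3
    induction x using WithBot.recBotCoe with
    | bot => exact absurd rfl h3
    | coe a =>
      obtain ⟨n, hn⟩ := ENat.ne_top_iff_exists.mp
        (ne_top_of_le_ne_top (ENat.natCast_ne_top _) (WithBot.coe_le_coe.mp h2))
      exact ⟨n, by rw [← hn]; rfl⟩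
  rw [hd]
  exact_mod_cast natDegree_le_of_supportDim_le hmax hr d M hd.le P hP

end Groth.Ega41Dim
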