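import Mathlib.NumberTheory.BernoulliPolynomials
import Mathlib.Algebra.Polynomial.Eval.Degree
import Mathlib.Order.Filter.AtTopBot.Basic
import Mathlib.Analysis.Polynomial.Basic

/-! Functions `ℕ → ℕ` which are eventually polynomial. -/

namespace Groth.Ega41Dim

open Polynomial Filter

theorem natDegree_bernoulli_le (n : ℕ) : (Polynomial.bernoulli n).natDegree ≤ n := by
  rw [Polynomial.bernoulli_def]
  refine Polynomial.natDegree_sum_le_of_forall_le _ _ fun i hi => ?_
  exact (natDegree_monomial_le _).trans (by simp at hi; lia)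

theorem exists_antiderivative {g : ℕ} (Q : ℚ[X]) (hQ : Q.degree < g) :
    ∃ P : ℚ[X], P.degree < (g + 1 : ℕ) ∧ ∀ x : ℚ, P.eval (x + 1) - P.eval x = Q.eval x := by
  refine ⟨∑ k ∈ Finset.range g, C (Q.coeff k / (k + 1)) * Polynomial.bernoulli (k + 1),
    (degree_sum_le _ _).trans_lt ((Finset.sup_lt_iff (WithBot.bot_lt_coe _)).mpr fun k hk => ?_), fun x => ?_⟩
  · refine (degree_le_of_natDegree_le ((natDegree_C_mul_le _ _).trans (natDegree_bernoulli_le _))).trans_lt ?_
    rw [Finset.mem_range] at hk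
    exact WithBot.coe_lt_coe.mpr (by lia)
  · conv_rhs => rw [Q.eval_eq_sum_range' (n := g + 1) (by
      by_cases h0 : Q = 0
      · simp [h0]
      · rw [natDegree_lt_iff_degree_lt h0]; exact hQ.trans (WithBot.coe_lt_coe.mpr g.lt_succ_self))]
    rw [Finset.sum_range_succ _ g, coeff_eq_zero_of_degree_lt hQ, zero_mul, add_zero, eval_finset_sum,
      eval_finset_sum, ← Finset.sum_sub_distrib]
    refine Finset.sum_congr rfl fun k _ => ?_
    rw [eval_mul, eval_mul, eval_C, eval_C, add_comm x 1, Polynomial.bernoulli_eval_one_add, Nat.add_sub_cancel]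
    have : (k : ℚ) + 1 ≠ 0 := by positivity
    push_cast
    field_simp
    ring

/-- `f` is eventually given by a polynomial of degree `< g`. -/
def EvPolyLT (f : ℕ → ℕ) (g : ℕ) : Prop :=
  ∃ P : ℚ[X], P.degree < g ∧ ∀ᶠ n in atTop, (f n : ℚ) = P.eval (n : ℚ)

theorem evPolyLT_of_diff {f : ℕ → ℕ} {g : ℕ} (Q : ℚ[X]) (hQ : Q.degree < g)
    (h : ∀ᶠ n in atTop, (f (n + 1) : ℚ) - f n = Q.eval (n : ℚ)) : EvPolyLT f (g + 1) := by
  obtain ⟨P, hP, hdiff⟩ := exists_antiderivative Q hQ
  obtain ⟨N, hN⟩ := eventually_atTop.mp h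
  refine ⟨P + C ((f N : ℚ) - P.eval (N : ℚ)), ?_, eventually_atTop.mpr ⟨N, fun n hn => ?_⟩⟩
  · exact (degree_add_le _ _).trans_lt (max_lt hP (degree_C_le.trans_lt (WithBot.coe_lt_coe.mpr (g.succ_pos))))
  · induction n, hn using Nat.le_induction with
    | base => simp
    | succ n hn ih =>
        have h1 := hN n hn
        have h2 := hdiff (n : ℚ)
        push_cast at *
        simp only [eval_add, eval_C] at *
        linarith

theorem eventually_comp_sub {P : ℕ → Prop} (c : ℕ) (h : ∀ᶠ n in atTop, P n) : ∀ᶠ n in atTop, P (n - c) :=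
  (tendsto_sub_atTop_nat c).eventually h

/-- Comparison of degrees from eventual inequalities between nonnegative values. -/
theorem natDegree_le_of_eventually_le {P Q : ℚ[X]} (h : ∀ᶠ n : ℕ in atTop, 0 ≤ P.eval (n : ℚ) ∧
    P.eval (n : ℚ) ≤ Q.eval (n : ℚ)) : P.natDegree ≤ Q.natDegree := by
  by_contra hlt
  push Not at hlt
  have hP0 : P ≠ 0 := fun h0 => by simp [h0] at hlt
  have hdeg : Q.degree < P.degree :=
    degree_lt_degree hlt
  have hlim := (Polynomial.div_tendsto_atTop_zero_of_degree_lt Q P hdeg).comp tendsto_natCast_atTop_atTop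
  obtain ⟨n, hn, h1, h2⟩ := (h.and ((hlim.eventually (eventually_lt_nhds (show (0 : ℚ) < 1 by norm_num))).and
    ((P.eventually_atTop_not_isRoot hP0).filter_mono le_rfl |> tendsto_natCast_atTop_atTop.eventually))).exists
  have hpos : 0 < P.eval (n : ℚ) := lt_of_le_of_ne hn.1 (Ne.symm h2)
  simp only [Function.comp_apply, div_lt_one hpos] at h1
  linarith [hn.2]

end Groth.Ega41Dim
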