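import Groth.Agent.Ega41Dim.EventuallyPoly
import Mathlib.RingTheory.Filtration
import Mathlib.RingTheory.Length
import Mathlib.Algebra.Module.Torsion.Basic
import Mathlib.RingTheory.Artinian.Ring
import Mathlib.RingTheory.KrullDimension.Module
import Mathlib.RingTheory.Ideal.AssociatedPrime.Localization
import Mathlib.RingTheory.KrullDimension.Zero

/-! The Hilbert–Samuel polynomial of a finite module over a semilocal Noetherian ring and its degree. -/

universe u

namespace Groth.Ega41Dim

open Polynomial Filter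

variable {A : Type u} [CommRing A] {M N : Type u} [AddCommGroup M] [Module A M] [AddCommGroup N] [Module A N]

/-- The length of `U / (V ⊓ U)`. -/
noncomputable def lenQ (U V : Submodule A M) : ℕ∞ := Module.length A (↥U ⧸ V.comap U.subtype)

theorem lenQ_add {U V W : Submodule A M} (hWV : W ≤ V) (hVU : V ≤ U) :
    lenQ U W = lenQ U V + lenQ V W := by
  rw [add_comm]
  have hex : Function.Exact
      ((W.comap V.subtype).mapQ (W.comap U.subtype) (Submodule.inclusion hVU) (fun _ h => h))
      ((W.comap U.subtype).mapQ (V.comap U.subtype) LinearMap.id (fun _ h => hWV h)) := by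
    intro y
    obtain ⟨y, rfl⟩ := Submodule.mkQ_surjective _ y
    constructor
    · intro h
      have hy : (y : M) ∈ V := (Submodule.Quotient.mk_eq_zero (V.comap U.subtype)).mp h
      exact ⟨Submodule.mkQ _ ⟨y, hy⟩, rfl⟩
    · rintro ⟨z, hz⟩
      obtain ⟨z, rfl⟩ := Submodule.mkQ_surjective _ z
      rw [← hz]
      exact (Submodule.Quotient.mk_eq_zero _).mpr z.2
  refine Module.length_eq_add_of_exact _ _ ?_ ?_ hex
  · rw [injective_iff_map_eq_zero]
    intro z hz
    obtain ⟨z, rfl⟩ := Submodule.mkQ_surjective _ z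
    have hz' : (z : M) ∈ W := (Submodule.Quotient.mk_eq_zero (W.comap U.subtype)).mp hz
    exact (Submodule.Quotient.mk_eq_zero _).mpr hz'
  · intro y
    obtain ⟨y, rfl⟩ := Submodule.mkQ_surjective _ y
    exact ⟨Submodule.mkQ _ y, rfl⟩

theorem lenQ_map (φ : M →ₗ[A] N) (U : Submodule A M) (V : Submodule A N) :
    lenQ U (U ⊓ V.comap φ) = lenQ (U.map φ ⊔ V) V := by
  let g : U →ₗ[A] (↥(U.map φ ⊔ V) ⧸ V.comap (U.map φ ⊔ V).subtype) :=
    Submodule.mkQ _ ∘ₗ (φ.domRestrict U).codRestrict _ (fun x => Submodule.mem_sup_left ⟨x, x.2, rfl⟩)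
  have hg : Function.Surjective g := by
    intro y
    obtain ⟨⟨y, hy⟩, rfl⟩ := Submodule.mkQ_surjective _ y
    obtain ⟨a, ⟨x, hx, rfl⟩, b, hb, hab⟩ := Submodule.mem_sup.mp hy
    refine ⟨⟨x, hx⟩, (Submodule.Quotient.eq _).mpr ?_⟩
    show φ x - y ∈ V
    rw [← hab, sub_add_cancel_left]
    exact V.neg_mem hb
  have hk : LinearMap.ker g = (U ⊓ V.comap φ).comap U.subtype := by
    ext x
    rw [LinearMap.mem_ker]
    exact (Submodule.Quotient.mk_eq_zero _).trans ⟨fun h => ⟨x.2, h⟩, fun h => h.2⟩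
  exact ((Submodule.quotEquivOfEq _ _ hk.symm).trans (g.quotKerEquivOfSurjective hg)).length_eq

theorem length_quot_eq_lenQ (g : M →ₗ[A] N) (hg : Function.Surjective g) (V : Submodule A N) :
    Module.length A (N ⧸ V) = lenQ ⊤ (V.comap g) := by
  let h : (⊤ : Submodule A M) →ₗ[A] N ⧸ V := V.mkQ ∘ₗ g ∘ₗ (⊤ : Submodule A M).subtype
  have hsurj : Function.Surjective h := fun y => by
    obtain ⟨y, rfl⟩ := Submodule.mkQ_surjective _ y
    obtain ⟨x, rfl⟩ := hg y
    exact ⟨⟨x, trivial⟩, rfl⟩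
  have hk : LinearMap.ker h = (V.comap g).comap (⊤ : Submodule A M).subtype := by
    ext x
    rw [LinearMap.mem_ker]
    exact Submodule.Quotient.mk_eq_zero _
  exact ((Submodule.quotEquivOfEq _ _ hk.symm).trans (h.quotKerEquivOfSurjective hsurj)).symm.length_eq

theorem lenQ_top (V : Submodule A M) : lenQ ⊤ V = Module.length A (M ⧸ V) :=
  ((length_quot_eq_lenQ LinearMap.id Function.surjective_id V).trans (by rw [Submodule.comap_id])).symm

theorem lenQ_eq_zero {U V : Submodule A M} (h : U ≤ V) : lenQ U V = 0 := by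
  rw [lenQ, Module.length_eq_zero_iff, Submodule.Quotient.subsingleton_iff]
  exact eq_top_iff.mpr fun x _ => h x.2

theorem lenQ_ne_top [IsNoetherianRing A] [Module.Finite A M] (r : Ideal A) [IsArtinianRing (A ⧸ r)]
    {U V : Submodule A M} (h : r • U ≤ V) : lenQ U V ≠ ⊤ := by
  have htor : Module.IsTorsionBySet A (↥U ⧸ V.comap U.subtype) (r : Set A) := by
    intro x a
    obtain ⟨x, rfl⟩ := Submodule.mkQ_surjective _ x
    exact (Submodule.Quotient.mk_eq_zero _).mpr (show (a : A) • (x : M) ∈ V from h (Submodule.smul_mem_smul a.2 x.2))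
  letI := htor.module
  haveI : IsScalarTower A (A ⧸ r) (↥U ⧸ V.comap U.subtype) := htor.isScalarTower
  haveI : Module.Finite A U := Module.Finite.iff_fg.mpr (IsNoetherian.noetherian U)
  haveI : Module.Finite (A ⧸ r) (↥U ⧸ V.comap U.subtype) := Module.Finite.of_restrictScalars_finite A _ _
  rw [lenQ, Module.length_eq_of_surjective (S := A) (R := A ⧸ r) Ideal.Quotient.mk_surjective]
  exact Module.length_ne_top

/-- The Hilbert–Serre theorem for subquotients of filtrations. -/
theorem evPolyLT_lenQ [IsNoetherianRing A] [Module.Finite A M] (r : Ideal A) [IsArtinianRing (A ⧸ r)] (g : ℕ) :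
    ∀ (x : Fin g → A) (K : Ideal A), (∀ i, x i ∈ r) → r ≤ Ideal.span (Set.range x) ⊔ K →
    ∀ U V : r.Filtration M, U.Stable → (∀ n, V.N n ≤ U.N n) → (∀ n, r • U.N n ≤ V.N n) →
      (∀ n, K • U.N n ≤ V.N (n + 1)) → EvPolyLT (fun n => (lenQ (U.N n) (V.N n)).toNat) g := by
  induction g with
  | zero =>
    intro x K _ hr U V ⟨n₀, hn₀⟩ _ _ hK
    refine ⟨0, by simpa using WithBot.bot_lt_coe 0, eventually_atTop.mpr ⟨n₀ + 1, fun n hn => ?_⟩⟩
    obtain ⟨n, rfl⟩ : ∃ m, n = m + 1 := ⟨n - 1, by lia⟩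
    have : U.N (n + 1) ≤ V.N (n + 1) := by
      rw [← hn₀ n (by lia)]
      refine le_trans (Submodule.smul_mono_left (hr.trans (sup_le ?_ le_rfl))) (hK n)
      rw [Ideal.span_le]
      rintro _ ⟨i, _⟩
      exact i.elim0
    simp [lenQ_eq_zero this]
  | succ g ih =>
    intro x K hx hr U V hU hVU hrU hK
    let a : A := x (Fin.last g)
    let φ : M →ₗ[A] M := a • LinearMap.id
    have hφ : ∀ (S : Submodule A M) (J : Ideal A), a ∈ J → S.map φ ≤ J • S := by
      rintro S J ha _ ⟨m, hm, rfl⟩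
      exact Submodule.smul_mem_smul ha hm
    have hsucc : ∀ (F : r.Filtration M) (n : ℕ), r • F.N (n - 1) ≤ F.N n := fun F n => by
      cases n with
      | zero => exact Submodule.smul_le_right
      | succ n => exact F.smul_le n
    let U' : r.Filtration M :=
      { N := fun n => U.N n ⊓ (V.N (n + 1)).comap φ
        mono := fun n => inf_le_inf (U.mono n) (Submodule.comap_mono (V.mono (n + 1)))
        smul_le := fun n => by
          refine Submodule.smul_le.mpr fun b hb m hm => ⟨U.smul_le n (Submodule.smul_mem_smul hb hm.1), ?_⟩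
          rw [SetLike.mem_coe, Submodule.mem_comap, map_smul]
          exact V.smul_le (n + 1) (Submodule.smul_mem_smul hb hm.2) }
    let V' : r.Filtration M :=
      { N := fun n => V.N n ⊔ (U.N (n - 1)).map φ
        mono := fun n => sup_le_sup (V.mono n) (Submodule.map_mono (U.antitone (by lia)))
        smul_le := fun n => by
          rw [Submodule.smul_sup]
          refine sup_le_sup (V.smul_le n) ?_
          rw [← Submodule.map_smul'']
          exact Submodule.map_mono (hsucc U n) }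
    have hU' : U'.Stable := hU.of_le (F' := U') (fun n => inf_le_left)
    have hVU' : ∀ n, V.N n ≤ U'.N n := fun n => le_inf (hVU n) fun m hm =>
      V.smul_le n (Submodule.smul_mem_smul (hx _) hm)
    have hV'U : ∀ n, V'.N n ≤ U.N n := fun n =>
      sup_le (hVU n) ((hφ _ r (hx _)).trans (hsucc U n))
    have hr' : r ≤ Ideal.span (Set.range (x ∘ Fin.castSucc)) ⊔ (K ⊔ Ideal.span {a}) := by
      refine hr.trans (sup_le ?_ (le_sup_left.trans le_sup_right))
      rw [Ideal.span_le]
      rintro _ ⟨i, rfl⟩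
      induction i using Fin.lastCases with
      | last => exact Submodule.mem_sup_right (Submodule.mem_sup_right (Ideal.mem_span_singleton_self a))
      | cast j => exact Submodule.mem_sup_left (Ideal.subset_span ⟨j, rfl⟩)
    have hspan : ∀ (S T : Submodule A M), S ≤ T.comap φ → Ideal.span {a} • S ≤ T := fun S T hS =>
      Submodule.smul_le.mpr fun b hb m hm => by
        obtain ⟨c, rfl⟩ := Ideal.mem_span_singleton'.mp hb
        rw [mul_smul]
        exact T.smul_mem c (hS hm)
    obtain ⟨P₁, hP₁, hk⟩ := ih (x ∘ Fin.castSucc) (K ⊔ Ideal.span {a}) (fun i => hx _) hr' U' V hU' hVU'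
      (fun n => le_trans (smul_mono_right _ inf_le_left) (hrU n)) (fun n => by
        rw [Submodule.sup_smul]
        exact sup_le (le_trans (smul_mono_right _ inf_le_left) (hK n)) (hspan _ _ inf_le_right))
    obtain ⟨P₂, hP₂, hc⟩ := ih (x ∘ Fin.castSucc) (K ⊔ Ideal.span {a}) (fun i => hx _) hr' U V' hU hV'U
      (fun n => le_trans (hrU n) le_sup_left) (fun n => by
        rw [Submodule.sup_smul]
        exact sup_le (le_trans (hK n) le_sup_left) (hspan _ _ fun m hm => Submodule.mem_sup_right ⟨m, hm, rfl⟩))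
    refine evPolyLT_of_diff (P₂.comp (X + 1) - P₁) ?_ ?_
    · refine (degree_sub_le _ _).trans_lt (max_lt ?_ hP₁)
      by_cases h0 : P₂ = 0
      · simpa [h0] using WithBot.bot_lt_coe g
      refine (degree_le_natDegree).trans_lt (WithBot.coe_lt_coe.mpr ?_)
      rw [Polynomial.natDegree_comp, show (X + 1 : ℚ[X]).natDegree = 1 from natDegree_X_add_C 1, mul_one]
      exact (natDegree_lt_iff_degree_lt h0).mpr hP₂
    · filter_upwards [hk, (tendsto_add_atTop_nat 1).eventually hc] with n h1 h2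
      have e1 : lenQ (U.N n) (V.N n) = lenQ (U.N n) (U'.N n) + lenQ (U'.N n) (V.N n) :=
        lenQ_add (hVU' n) inf_le_left
      have e2 : lenQ (U.N (n + 1)) (V.N (n + 1)) =
          lenQ (U.N (n + 1)) (V'.N (n + 1)) + lenQ (U.N n) (U'.N n) := by
        rw [lenQ_add (le_sup_left : V.N (n + 1) ≤ V'.N (n + 1)) (hV'U (n + 1)),
          show U'.N n = U.N n ⊓ (V.N (n + 1)).comap φ from rfl, lenQ_map, sup_comm ((U.N n).map φ)]
        rfl
      have t1 : lenQ (U.N n) (U'.N n) ≠ ⊤ := lenQ_ne_top r ((hrU n).trans (hVU' n))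
      have t2 : lenQ (U'.N n) (V.N n) ≠ ⊤ :=
        lenQ_ne_top r (le_trans (smul_mono_right _ inf_le_left) (hrU n))
      have t3 : lenQ (U.N (n + 1)) (V'.N (n + 1)) ≠ ⊤ := lenQ_ne_top r ((hrU _).trans le_sup_left)
      rw [e1, e2, ENat.toNat_add t1 t2, ENat.toNat_add t3 t1]
      push_cast at h2 ⊢
      rw [eval_sub, eval_comp, eval_add, eval_X, eval_one, ← h1, ← h2]
      ring

variable (r : Ideal A)

/-- The Hilbert–Samuel function. -/
noncomputable def hs (M : Type u) [AddCommGroup M] [Module A M] (n : ℕ) : ℕ :=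
  (Module.length A (M ⧸ r ^ n • (⊤ : Submodule A M))).toNat

/-- `P` is the Hilbert–Samuel polynomial of `M`. -/
def IsHSPoly (M : Type u) [AddCommGroup M] [Module A M] (P : ℚ[X]) : Prop :=
  ∀ᶠ n in atTop, (hs r M n : ℚ) = P.eval (n : ℚ)

variable [IsNoetherianRing A] [IsArtinianRing (A ⧸ r)]

theorem length_quot_ne_top (M : Type u) [AddCommGroup M] [Module A M] [Module.Finite A M] :
    ∀ n : ℕ, Module.length A (M ⧸ r ^ n • (⊤ : Submodule A M)) ≠ ⊤
  | 0 => by
    rw [← lenQ_top, lenQ_eq_zero (by rw [pow_zero, Ideal.one_eq_top, Submodule.top_smul])]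
    exact ENat.zero_ne_top
  | n + 1 => by
    rw [← lenQ_top, lenQ_add (Submodule.smul_mono_left (Ideal.pow_le_pow_right n.le_succ)) le_top, lenQ_top]
    exact WithTop.add_ne_top.mpr ⟨length_quot_ne_top M n, lenQ_ne_top r (by rw [← mul_smul, ← pow_succ'])⟩

theorem exists_isHSPoly (M : Type u) [AddCommGroup M] [Module A M] [Module.Finite A M] :
    ∃ P, IsHSPoly r M P := by
  obtain ⟨G, hG⟩ := IsNoetherian.noetherian r
  let V : r.Filtration M :=
    { N := fun n => r ^ (n + 1) • ⊤
      mono := fun n => Submodule.smul_mono_left (Ideal.pow_le_pow_right (by lia))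
      smul_le := fun n => by rw [← mul_smul, ← pow_succ'] }
  obtain ⟨Q, hQ, hev⟩ := evPolyLT_lenQ r G.card (fun i => (G.equivFin.symm i).1) ⊥
    (fun i => hG.le (Submodule.subset_span (G.equivFin.symm i).2))
    (by
      rw [sup_bot_eq, ← hG]
      exact Ideal.span_mono fun y hy => ⟨G.equivFin ⟨y, hy⟩, by simp⟩)
    (r.stableFiltration ⊤) V (Ideal.stableFiltration_stable r ⊤)
    (fun n => Submodule.smul_mono_left (Ideal.pow_le_pow_right n.le_succ))
    (fun n => by show r • r ^ n • (⊤ : Submodule A M) ≤ _; rw [← mul_smul, ← pow_succ'])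
    (fun n => by simp)
  obtain ⟨P, -, hP⟩ := evPolyLT_of_diff (f := hs r M) Q hQ (hev.mono fun n hn => by
    have e : lenQ (⊤ : Submodule A M) (r ^ (n + 1) • ⊤) = lenQ ⊤ (r ^ n • ⊤) + lenQ (r ^ n • ⊤) (r ^ (n + 1) • ⊤) :=
      lenQ_add (Submodule.smul_mono_left (Ideal.pow_le_pow_right n.le_succ)) le_top
    have t : lenQ (r ^ n • ⊤ : Submodule A M) (r ^ (n + 1) • ⊤) ≠ ⊤ :=
      lenQ_ne_top r (by rw [← mul_smul, ← pow_succ'])
    rw [lenQ_top, lenQ_top] at e
    rw [← hn, hs, hs, e, ENat.toNat_add (length_quot_ne_top r M n) t]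
    push_cast
    simp [V, Ideal.stableFiltration])
  exact ⟨P, hP⟩

end Groth.Ega41Dim
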